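import Mathlib
import Groth.Agent.Lib.Helper24.CharCyc.LocClosedDim
import Groth.Agent.Lib.Helper24.SecComp.Main4952
import Groth.Agent.Lib.Helper7.IntMultBridge
import Groth.Agent.Lib.Helper24.MovLem.Main14901

/-!
# The boundary of a locally closed subset of a scheme of finite type over a field has smaller
dimension (helper24)
-/

set_option autoImplicit false
set_option linter.style.haveILetI false
universe u
open AlgebraicGeometry CategoryTheory CategoryTheory.Limits TopologicalSpace Topology
open Groth.Agent.Lib.Helper24 Groth.Agent.Lib.lead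

namespace Groth.Agent.Lib.Helper24.OrbitDim

theorem dim_nonneg {T : Type*} [TopologicalSpace T] [Nonempty T] :
    (0 : WithBot ℕ∞) ≤ topologicalKrullDim T := by
  haveI : Nonempty (IrreducibleCloseds T) := by
    obtain ⟨x⟩ := ‹Nonempty T›
    exact ⟨⟨closure {x}, isIrreducible_singleton.closure, isClosed_closure⟩⟩
  exact Order.krullDim_nonneg

theorem dim_eq_bot {T : Type*} [TopologicalSpace T] [IsEmpty T] :
    topologicalKrullDim T = ⊥ := by
  unfold topologicalKrullDim
  haveI : IsEmpty (TopologicalSpace.IrreducibleCloseds T) :=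
    ⟨fun s => by
      obtain ⟨x, -⟩ := s.isIrreducible.nonempty
      exact isEmptyElim x⟩
  exact Order.krullDim_eq_bot

/-- every point of the closure of a locally closed subset of a Noetherian quasi-sober space is a
specialization of a point of the subset -/
theorem exists_mem_specializes {B : Type*} [TopologicalSpace B] [NoetherianSpace B] [QuasiSober B]
    {T : Set B} (hT : IsLocallyClosed T) {t : B} (ht : t ∈ closure T) : ∃ e ∈ T, e ⤳ t := by
  haveI : QuasiSober ↥T := CharCyc.quasiSober_of_isLocallyClosed hT
  haveI : NoetherianSpace ↥T := NoetherianSpace.set T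
  have hfin : (irreducibleComponents ↥T).Finite := NoetherianSpace.finite_irreducibleComponents
  have hT1 : T = ⋃ W ∈ irreducibleComponents ↥T, (Subtype.val '' W : Set B) := by
    ext b
    simp only [Set.mem_iUnion, Set.mem_image, exists_prop]
    constructor
    · intro hb
      have h1 : (⟨b, hb⟩ : ↥T) ∈ ⋃₀ irreducibleComponents ↥T := by
        rw [sUnion_irreducibleComponents]; trivial
      obtain ⟨W, hW, hbW⟩ := h1
      exact ⟨W, hW, ⟨b, hb⟩, hbW, rfl⟩
    · rintro ⟨W, -, w, -, rfl⟩
      exact w.2
  rw [hT1, hfin.closure_biUnion] at ht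
  simp only [Set.mem_iUnion, exists_prop] at ht
  obtain ⟨W, hW, htW⟩ := ht
  obtain ⟨w, hw⟩ := QuasiSober.sober hW.1 (isClosed_of_mem_irreducibleComponents W hW)
  refine ⟨w.1, w.2, specializes_iff_mem_closure.2 ?_⟩
  have h2 : (Subtype.val '' W : Set B) ⊆ closure ({w.1} : Set B) := by
    rw [← hw.def]
    have := image_closure_subset_closure_image (f := (Subtype.val : ↥T → B)) (s := {w})
      continuous_subtype_val
    rwa [Set.image_singleton] at this
  exact closure_minimal h2 isClosed_closure htW

/-- a proper closed subset of a finite-dimensional irreducible set has smaller dimension -/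
theorem dim_lt_of_ssubset {B : Type*} [TopologicalSpace B] {Z' Z : Set B} (hZ'c : IsClosed Z')
    (hZ : IsIrreducible Z) (n : ℕ) (hn : topologicalKrullDim ↥Z = n) (hsub : Z' ⊆ Z)
    (hne : Z' ≠ Z) : topologicalKrullDim ↥Z' < n := by
  have hle : topologicalKrullDim ↥Z' ≤ n := hn ▸ SecComp.dim_le_of_subset hsub
  refine lt_of_le_of_ne hle ?_
  intro heq
  haveI : IrreducibleSpace ↥Z := Subtype.irreducibleSpace hZ
  let V : Set ↥Z := Subtype.val ⁻¹' Z'
  have hVc : IsClosed V := hZ'c.preimage continuous_subtype_val
  have hV : topologicalKrullDim ↥V = n := by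
    apply le_antisymm
    · rw [← hn]
      exact IsInducing.topologicalKrullDim_le (f := (Subtype.val : ↥V → ↥Z)) IsInducing.subtypeVal
    · rw [← heq]
      let φ : ↥Z' → ↥V := fun z => ⟨⟨z.1, hsub z.2⟩, z.2⟩
      have hφc : Continuous φ :=
        Continuous.subtype_mk (Continuous.subtype_mk continuous_subtype_val _) _
      have hφ : IsInducing φ := by
        refine IsInducing.of_comp hφc
          ((continuous_subtype_val (p := (· ∈ Z))).comp (continuous_subtype_val (p := (· ∈ V)))) ?_
        exact (IsInducing.subtypeVal (t := Z'))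
      exact hφ.topologicalKrullDim_le
  have := Groth.Agent.Lib.Helper7.IMBridge.eq_univ_of_topologicalKrullDim_eq n hn V hVc hV
  apply hne
  apply Set.Subset.antisymm hsub
  intro z hz
  have : (⟨z, hz⟩ : ↥Z) ∈ V := by rw [this]; trivial
  exact this

theorem arith_le_pred (a : WithBot ℕ∞) (N : ℕ) (h : a < N) : a ≤ ((N - 1 : ℕ) : WithBot ℕ∞) := by
  cases a with
  | bot => exact bot_le
  | coe a =>
    cases a with
    | top =>
      exfalso
      have h3 : (⊤ : ℕ∞) < ((N : ℕ) : ℕ∞) := WithBot.coe_lt_coe.mp h
      exact absurd h3 (not_lt.2 le_top)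
    | coe m =>
      have h' : m < N := by exact_mod_cast h
      have : m ≤ N - 1 := by omega
      have h2 : ((m : ℕ) : ℕ∞) ≤ ((N - 1 : ℕ) : ℕ∞) := by exact_mod_cast this
      exact WithBot.coe_le_coe.2 h2

/-- the boundary of a nonempty locally closed subset of a scheme of finite type over a field has
smaller dimension than the subset -/
theorem dim_closure_diff_lt (k : Type u) [Field k] {B : Scheme.{u}}
    (qB : B ⟶ Spec (CommRingCat.of k)) [LocallyOfFiniteType qB] [NoetherianSpace B] {T : Set B}
    (hT : IsLocallyClosed T) (hne : T.Nonempty) (hF : IsClosed (closure T \ T)) :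
    topologicalKrullDim ↥(closure T \ T) < topologicalKrullDim ↥T := by
  -- the dimension of `T` is a natural number
  obtain ⟨M, hM⟩ : ∃ M : ℕ, topologicalKrullDim ↥T ≤ M := by
    haveI : IsLocallyNoetherian B := LocallyOfFiniteType.isLocallyNoetherian qB
    haveI : CompactSpace B := NoetherianSpace.compactSpace B
    haveI : IsNoetherian B := {}
    obtain ⟨M, hM⟩ := MovLem.exists_nat_dim_le k qB
    refine ⟨M, le_trans ?_ hM⟩
    exact IsInducing.topologicalKrullDim_le (f := (Subtype.val : ↥T → B)) IsInducing.subtypeVal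
  obtain ⟨N, hN⟩ : ∃ N : ℕ, topologicalKrullDim ↥T = N := by
    haveI : Nonempty ↥T := hne.to_subtype
    have h0 : (0 : WithBot ℕ∞) ≤ topologicalKrullDim ↥T := dim_nonneg
    generalize topologicalKrullDim ↥T = d at h0 hM
    cases d with
    | bot => exact absurd h0 (by simp)
    | coe a =>
      cases a with
      | top =>
        exfalso
        have h3 : (⊤ : ℕ∞) ≤ ((M : ℕ) : ℕ∞) := WithBot.coe_le_coe.mp hM
        exact absurd (top_le_iff.mp h3) (ENat.natCast_ne_top _)
      | coe m => exact ⟨m, rfl⟩
  rw [hN]
  -- each point of the boundary has closure of smaller dimension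
  have key : ∀ t ∈ closure T \ T, topologicalKrullDim ↥(closure ({t} : Set B)) < N := by
    rintro t ⟨htc, htT⟩
    obtain ⟨e, heT, het⟩ := exists_mem_specializes hT htc
    obtain ⟨n, hn⟩ := CharCyc.exists_nat_dim_closure k qB e
    have h1 : topologicalKrullDim ↥(closure ({t} : Set B)) < n := by
      refine dim_lt_of_ssubset isClosed_closure isIrreducible_singleton.closure n hn ?_ ?_
      · exact closure_minimal (Set.singleton_subset_iff.2 (specializes_iff_mem_closure.1 het))
          isClosed_closure
      · intro heq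
        -- then `e` specializes to `t` and conversely, so `e ∈ closure T \ T`-closure
        have h2 : e ∈ closure ({t} : Set B) := by rw [heq]; exact subset_closure rfl
        have h3 : closure ({t} : Set B) ⊆ closure T \ T :=
          closure_minimal (Set.singleton_subset_iff.2 ⟨htc, htT⟩) hF
        exact (h3 h2).2 heT
    have h4 := CharCyc.dim_closure_le_of_mem k qB hT e heT
    rw [hn, hN] at h4
    exact lt_of_lt_of_le h1 h4
  by_cases hemp : (closure T \ T) = ∅
  · rw [hemp]
    have : topologicalKrullDim ↥(∅ : Set B) = ⊥ := by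
      haveI : IsEmpty ↥(∅ : Set B) := Set.isEmpty_coe_sort.2 rfl
      exact dim_eq_bot
    rw [this]
    exact WithBot.bot_lt_coe _
  · obtain ⟨t, ht⟩ := Set.nonempty_iff_ne_empty.2 hemp
    have hN1 : 1 ≤ N := by
      have h1 := key t ht
      haveI : Nonempty ↥(closure ({t} : Set B)) := ⟨⟨t, subset_closure rfl⟩⟩
      have h0 : (0 : WithBot ℕ∞) ≤ topologicalKrullDim ↥(closure ({t} : Set B)) :=
        dim_nonneg
      have h2 : (0 : WithBot ℕ∞) < N := lt_of_le_of_lt h0 h1
      have h3 : (0 : ℕ) < N := by exact_mod_cast h2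
      omega
    have h5 : topologicalKrullDim ↥(closure T \ T) ≤ ((N - 1 : ℕ) : WithBot ℕ∞) := by
      apply CharCyc.dim_le_of_forall_closure hF.isLocallyClosed
      intro t ht
      exact arith_le_pred _ N (key t ht)
    refine lt_of_le_of_lt h5 ?_
    have : N - 1 < N := by omega
    exact_mod_cast this

end Groth.Agent.Lib.Helper24.OrbitDim
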