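import Mathlib
import Groth.Agent.Lib.lead.GrpEquidim
import Groth.Agent.Lib.Helper24.Orbit.Connected
import Groth.Agent.Lib.Helper24.LieEq.LieOfKer

/-!
# Homogeneous spaces are equidimensional (helper24)
-/

set_option autoImplicit false
set_option linter.style.haveILetI false
universe u
open CategoryTheory CategoryTheory.Limits MonoidalCategory CartesianMonoidalCategory MonObj GrpObj
  AlgebraicGeometry Topology TopologicalSpace

namespace Groth.Agent.Lib.Helper24.OrbitDim

open Groth.Agent.Lib.lead Groth.Agent.Lib.Helper7 Groth.Agent.Lib.Helper24 Groth.Agent.Lib.Helper18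
open Groth.Agent.Lib.Helper4.ActShear Groth.Agent.Lib.Helper4.ActShear2

variable (k : Type u) [Field k] (G Z : Over (Spec (CommRingCat.of k))) [GrpObj G]
  (b : AlgGrp.Action G Z)

theorem isPullback_fst_act :
    IsPullback (pullback.fst G.hom Z.hom) b.act.left G.hom Z.hom := by
  have A := IsPullback.of_hasPullback G.hom Z.hom
  have h1 : (shear b).left ≫ pullback.fst G.hom Z.hom = pullback.fst G.hom Z.hom := by
    have h : shear b ≫ fst G Z = fst G Z := by simp [shear]
    exact congrArg (fun φ => φ.left) h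
  have h2 : (shear b).left ≫ pullback.snd G.hom Z.hom = b.act.left :=
    (act_left b).symm
  exact A.of_iso' (asIso (shear b).left) (Iso.refl _) (Iso.refl _) (Iso.refl _)
    (by simpa using h1) (by simpa using h2) (by simp) (by simp)

/-- the local dimension of `Z` is the same at `z` and at `g • z` -/
theorem localDim_snd_eq_act [LocallyOfFiniteType G.hom] [LocallyOfFiniteType Z.hom]
    (w : (G ⊗ Z).left) :
    FlatMor.localDim Z.left ((snd G Z).left w) = FlatMor.localDim Z.left (b.act.left w) := by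
  letI oR : G.left.Over (Spec (CommRingCat.of k)) := ⟨G.hom⟩
  haveI : LocallyOfFiniteType (G.left ↘ Spec (CommRingCat.of k)) := ‹LocallyOfFiniteType G.hom›
  letI oZ : Z.left.Over (Spec (CommRingCat.of k)) := ⟨Z.hom⟩
  haveI : LocallyOfFiniteType (Z.left ↘ Spec (CommRingCat.of k)) := ‹LocallyOfFiniteType Z.hom›
  have e1 := GrpdEquidim.localDim_of_isPullback k G.hom Z.hom _ _
    (IsPullback.of_hasPullback G.hom Z.hom) w
  have e3 := GrpdEquidim.localDim_of_isPullback k G.hom Z.hom _ _ (isPullback_fst_act k G Z b) w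
  obtain ⟨a, ha, -⟩ := GrpdEquidim.exists_nat_localDim k G.left (pullback.fst G.hom Z.hom w)
  obtain ⟨m, hm, -⟩ := GrpdEquidim.exists_nat_localDim k Z.left (pullback.snd G.hom Z.hom w)
  obtain ⟨m', hm', -⟩ := GrpdEquidim.exists_nat_localDim k Z.left (b.act.left w)
  rw [ha, hm] at e1
  rw [ha, hm'] at e3
  have h13 : a + m = a + m' := by exact_mod_cast e1.symm.trans e3
  change FlatMor.localDim Z.left (pullback.snd G.hom Z.hom w) = _
  rw [hm, hm']
  have : m = m' := by omega
  rw [this]

/-- if the graph morphism is surjective, the local dimension is constant -/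
theorem localDim_const_of_surjective_graph [LocallyOfFiniteType G.hom] [LocallyOfFiniteType Z.hom]
    (hΓ : Surjective (lift (snd G Z) b.act).left) (z₁ z₂ : Z.left) :
    FlatMor.localDim Z.left z₁ = FlatMor.localDim Z.left z₂ := by
  haveI : Subsingleton (Spec (CommRingCat.of k)) :=
    inferInstanceAs (Subsingleton (PrimeSpectrum k))
  obtain ⟨t, ht1, ht2⟩ := Scheme.Pullback.exists_preimage_pullback (f := Z.hom) (g := Z.hom) z₁ z₂
    (Subsingleton.elim _ _)
  obtain ⟨w, hw⟩ := hΓ.1 t
  have h1 : (snd G Z).left w = z₁ := by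
    have h : lift (snd G Z) b.act ≫ fst Z Z = snd G Z := lift_fst _ _
    have h' : (lift (snd G Z) b.act).left ≫ pullback.fst Z.hom Z.hom = (snd G Z).left :=
      congrArg (fun φ => φ.left) h
    rw [← h', Scheme.Hom.comp_apply, hw, ht1]
  have h2 : b.act.left w = z₂ := by
    have h : lift (snd G Z) b.act ≫ snd Z Z = b.act := lift_snd _ _
    have h' : (lift (snd G Z) b.act).left ≫ pullback.snd Z.hom Z.hom = b.act.left :=
      congrArg (fun φ => φ.left) h
    rw [← h', Scheme.Hom.comp_apply, hw, ht2]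
  rw [← h1, ← h2]
  exact localDim_snd_eq_act k G Z b w

variable {k G Z}

/-- over an algebraically closed field, if an orbit map is surjective then so is the graph
morphism -/
theorem surjective_graph_of_surjective_orbitMap [IsAlgClosed k]
    [LocallyOfFiniteType G.hom] [QuasiCompact G.hom]
    [LocallyOfFiniteType Z.hom] [QuasiCompact Z.hom]
    (y : 𝟙_ (Over (Spec (CommRingCat.of k))) ⟶ Z) (hsurj : Surjective (b.orbitMap y).left) :
    Surjective (lift (snd G Z) b.act).left := by
  haveI := hsurj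
  haveI : LocallyOfFiniteType (b.orbitMap y).left := by
    have : LocallyOfFiniteType ((b.orbitMap y).left ≫ Z.hom) := by
      rw [Over.w (b.orbitMap y)]; infer_instance
    exact locallyOfFiniteType_of_comp (b.orbitMap y).left Z.hom
  have key : ∀ y' : 𝟙_ (Over (Spec (CommRingCat.of k))) ⟶ Z,
      ∃ g : 𝟙_ (Over (Spec (CommRingCat.of k))) ⟶ G, g ≫ b.orbitMap y = y' :=
    fun y' => Orbit.exists_rational_lift (b.orbitMap y) y'
  have htr : ∀ y₁ y₂ : 𝟙_ (Over (Spec (CommRingCat.of k))) ⟶ Z,
      ∃ g : 𝟙_ (Over (Spec (CommRingCat.of k))) ⟶ G, lift g y₁ ≫ b.act = y₂ := by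
    intro y₁ y₂
    obtain ⟨g₁, hg₁⟩ := key y₁
    obtain ⟨g₂, hg₂⟩ := key y₂
    refine ⟨g₂ * g₁⁻¹, ?_⟩
    change smul b (g₂ * g₁⁻¹) y₁ = y₂
    rw [← hg₁, ← hg₂, Orbit.orbitMap_eq_smul, Orbit.orbitMap_eq_smul, ← mul_smul']
    congr 1
    change (g₂ * g₁⁻¹) * g₁ = g₂
    simp
  haveI : LocallyOfFiniteType (G ⊗ Z).hom := by
    have : (G ⊗ Z).hom = (snd G Z).left ≫ Z.hom := (Over.w (snd G Z)).symm
    rw [this]
    haveI : LocallyOfFiniteType (snd G Z).left :=
      inferInstanceAs (LocallyOfFiniteType (pullback.snd G.hom Z.hom))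
    infer_instance
  haveI : QuasiCompact (G ⊗ Z).hom := by
    have : (G ⊗ Z).hom = (snd G Z).left ≫ Z.hom := (Over.w (snd G Z)).symm
    rw [this]
    haveI : QuasiCompact (snd G Z).left :=
      inferInstanceAs (QuasiCompact (pullback.snd G.hom Z.hom))
    infer_instance
  haveI : LocallyOfFiniteType (Z ⊗ Z).hom := by
    have : (Z ⊗ Z).hom = (snd Z Z).left ≫ Z.hom := (Over.w (snd Z Z)).symm
    rw [this]
    haveI : LocallyOfFiniteType (snd Z Z).left :=
      inferInstanceAs (LocallyOfFiniteType (pullback.snd Z.hom Z.hom))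
    infer_instance
  haveI : QuasiCompact (Z ⊗ Z).hom := by
    have : (Z ⊗ Z).hom = (snd Z Z).left ≫ Z.hom := (Over.w (snd Z Z)).symm
    rw [this]
    haveI : QuasiCompact (snd Z Z).left :=
      inferInstanceAs (QuasiCompact (pullback.snd Z.hom Z.hom))
    infer_instance
  apply LieEq.surjective_of_points (k := k) (G ⊗ Z) (Z ⊗ Z) (lift (snd G Z) b.act)
  intro t
  obtain ⟨g, hg⟩ := htr (t ≫ fst Z Z) (t ≫ snd Z Z)
  refine ⟨lift g (t ≫ fst Z Z), ?_⟩
  apply CartesianMonoidalCategory.hom_ext
  · rw [Category.assoc, lift_fst, lift_snd]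
  · rw [Category.assoc, lift_snd, hg]

end Groth.Agent.Lib.Helper24.OrbitDim
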