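import Mathlib
import Groth.Agent.Lib.Helper24.OrbitDim.Homog
import Groth.Agent.Lib.Helper24.OrbitDim.Bdry
import Groth.Agent.Lib.Helper24.Orbit.Quotient
import Groth.Agent.Lib.lead.FlatEquidimGen

/-!
# dim G = dim (G · x) + dim G_x (helper24)
-/

set_option autoImplicit false
set_option linter.style.haveILetI false
universe u
open CategoryTheory CategoryTheory.Limits MonoidalCategory CartesianMonoidalCategory MonObj GrpObj
  AlgebraicGeometry Topology TopologicalSpace

namespace Groth.Agent.Lib.Helper24.OrbitDim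

open Groth.Agent.Lib.lead Groth.Agent.Lib.Helper7 Groth.Agent.Lib.Helper24 Groth.Agent.Lib.Helper18
open Groth.Agent.Lib.Helper4.ActShear Groth.Agent.Lib.Helper4.ActShear2

theorem dim_eq_of_range_eq {A B T : Type*} [TopologicalSpace A] [TopologicalSpace B]
    [TopologicalSpace T] {f : A → T} {g : B → T} (hf : IsEmbedding f) (hg : IsEmbedding g)
    (h : Set.range f = Set.range g) : topologicalKrullDim A = topologicalKrullDim B := by
  have e1 := IsHomeomorph.topologicalKrullDim_eq _ hf.toHomeomorph.isHomeomorph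
  have e2 := IsHomeomorph.topologicalKrullDim_eq _ hg.toHomeomorph.isHomeomorph
  rw [e1, e2, h]

/-- a nonempty space all of whose irreducible components have dimension `n` has dimension `n` -/
theorem dim_eq_of_forall_component {T : Type*} [TopologicalSpace T] [Nonempty T] (n : WithBot ℕ∞)
    (h : ∀ C ∈ irreducibleComponents T, topologicalKrullDim ↥C = n) : topologicalKrullDim T = n := by
  apply le_antisymm
  · exact TopDimComp.topologicalKrullDim_le_of_forall_component _ (fun C hC => (h C hC).le)
  · obtain ⟨t⟩ := ‹Nonempty T›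
    rw [← h _ (irreducibleComponent_mem_irreducibleComponents t)]
    exact topologicalKrullDim_subspace_le _ _

variable (k : Type u) [Field k]

theorem main16130 [IsAlgClosed k]
    (G X : Over (Spec (CommRingCat.of k))) [GrpObj G] [Smooth G.hom] [QuasiCompact G.hom]
    [IsReduced X.left] [IsSeparated X.hom] [LocallyOfFiniteType X.hom] [QuasiCompact X.hom]
    (a : AlgGrp.Action G X) (x : 𝟙_ (Over (Spec (CommRingCat.of k))) ⟶ X) :
    topologicalKrullDim ↥G.left =
      topologicalKrullDim ↥(Set.range (a.orbitMap x).left.base) +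
        topologicalKrullDim ↥(Limits.pullback (a.orbitMap x).left x.left) := by
  haveI : Subsingleton (Spec (CommRingCat.of k)) :=
    inferInstanceAs (Subsingleton (PrimeSpectrum k))
  obtain ⟨Z, b, y, z, hmono, hψ, hy, himm, hred, hrange, hlft, hqc, horb, hflat, hsurj, -⟩ :=
    Orbit.exists_orbit_data G X a x
  haveI := hmono
  haveI := hlft
  haveI := hqc
  haveI := himm
  haveI := hflat
  haveI := hsurj
  have hΓ := surjective_graph_of_surjective_orbitMap b y hsurj
  have hconst := localDim_const_of_surjective_graph k G Z b hΓ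
  letI oG : G.left.Over (Spec (CommRingCat.of k)) := ⟨G.hom⟩
  haveI : LocallyOfFiniteType (G.left ↘ Spec (CommRingCat.of k)) :=
    inferInstanceAs (LocallyOfFiniteType G.hom)
  letI oZ : Z.left.Over (Spec (CommRingCat.of k)) := ⟨Z.hom⟩
  haveI : LocallyOfFiniteType (Z.left ↘ Spec (CommRingCat.of k)) := ‹LocallyOfFiniteType Z.hom›
  obtain ⟨hZcomp, hZloc⟩ := GrpEquidim.equidim_of_localDim_const k Z.left hconst
  obtain ⟨hGcomp, hGloc⟩ := GrpEquidim.S5341 k G
  set f : G.left ⟶ Z.left := (b.orbitMap y).left with hf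
  have hfover : f ≫ Z.hom = G.hom := Over.w (b.orbitMap y)
  haveI : LocallyOfFiniteType f := by
    have : LocallyOfFiniteType (f ≫ Z.hom) := by rw [hfover]; infer_instance
    exact locallyOfFiniteType_of_comp f Z.hom
  -- a generic point of `G`
  haveI : Nonempty G.left := Orbit.nonempty_left k G
  obtain ⟨g₀⟩ := ‹Nonempty G.left›
  have hC := irreducibleComponent_mem_irreducibleComponents g₀
  obtain ⟨ξ, hξ⟩ := QuasiSober.sober hC.1 (isClosed_of_mem_irreducibleComponents _ hC)
  have hξmax : ∀ z' : G.left, z' ⤳ ξ → z' = ξ :=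
    GenFiniteGen.maximal_of_mem_irreducibleComponents (by rw [hξ.def]; exact hC)
  have hG : FibreOrder.G f ξ = 0 :=
    (FibreDim.G_eq_zero_iff f ξ).2 (fun z' _ hz' => hξmax z' hz')
  have core := FlatEquidimGen.localDim_eq_add_tr k f hfover ξ hG
  obtain ⟨d, hd, -⟩ := GrpdEquidim.exists_nat_localDim k Z.left (f ξ)
  set n := FibreDim.tr f ξ with hn
  have hdimZ : topologicalKrullDim ↥Z.left = d := by rw [← hZloc (f ξ), hd]
  have hdimG : topologicalKrullDim ↥G.left = ((d + n : ℕ) : WithBot ℕ∞) := by
    rw [← hGloc ξ, core, hd]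
    push_cast
    rfl
  have hY : ∀ C ∈ irreducibleComponents (Z.left : Type u),
      topologicalKrullDim C = (d : WithBot ℕ∞) := by
    intro C hC
    rw [hZcomp C hC, hdimZ]
  have hX : ∀ C ∈ irreducibleComponents (G.left : Type u),
      topologicalKrullDim C = ((d + n : ℕ) : WithBot ℕ∞) := by
    intro C hC
    rw [hGcomp C hC, hdimG]
  have hfib := (FlatEquidimGen.S14403 k G.hom Z.hom f hfover d n hY).1 hX
  -- the base point
  let pt : (𝟙_ (Over (Spec (CommRingCat.of k)))).left :=
    (⟨⊥, Ideal.isPrime_bot⟩ : PrimeSpectrum k)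
  set y₀ : Z.left := y.left pt with hy₀
  obtain ⟨g₁, hg₁⟩ := hsurj.1 y₀
  haveI : Nonempty (f.fiber y₀) := ⟨(f.fiberHomeo y₀).symm ⟨g₁, hg₁⟩⟩
  have hdimF : topologicalKrullDim ↥(f.fiber y₀) = n :=
    dim_eq_of_forall_component _ (hfib y₀)
  -- the orbit
  have hdimE : topologicalKrullDim ↥(Set.range (a.orbitMap x).left.base) =
      topologicalKrullDim ↥Z.left := by
    rw [← hrange]
    exact (IsHomeomorph.topologicalKrullDim_eq _
      z.left.isEmbedding.toHomeomorph.isHomeomorph).symm
  -- the stabilizer
  have hdimS : topologicalKrullDim ↥(Limits.pullback (a.orbitMap x).left x.left) =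
      topologicalKrullDim ↥(f.fiber y₀) := by
    haveI : IsClosedImmersion x.left :=
      isClosedImmersion_of_comp_eq_id (Y := Spec (CommRingCat.of k)) X.hom x.left (Over.w x)
    have hemb : IsEmbedding (pullback.fst (a.orbitMap x).left x.left) :=
      (pullback.fst (a.orbitMap x).left x.left).isEmbedding
    refine dim_eq_of_range_eq hemb (f.fiberι y₀).isEmbedding ?_
    rw [Scheme.Pullback.range_fst, f.range_fiberι]
    have hα : (a.orbitMap x).left = f ≫ z.left := by
      rw [hf, ← Over.comp_left, horb]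
    have hx : x.left = y.left ≫ z.left := by rw [← Over.comp_left, hy]
    ext g
    simp only [Set.mem_preimage, Set.mem_range, Set.mem_singleton_iff]
    constructor
    · rintro ⟨p, hp⟩
      rw [hα, hx, Scheme.Hom.comp_apply, Scheme.Hom.comp_apply] at hp
      have := z.left.isEmbedding.injective hp
      rw [← this, hy₀]
      congr 1
      exact Subsingleton.elim (α := Spec (CommRingCat.of k)) _ _
    · intro hg
      refine ⟨pt, ?_⟩
      rw [hα, hx, Scheme.Hom.comp_apply, Scheme.Hom.comp_apply, hg]
  rw [hdimE, hdimS, hdimZ, hdimF, hdimG]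
  push_cast
  rfl

end Groth.Agent.Lib.Helper24.OrbitDim
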