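import Mathlib
import Groth.Agent.Lib.Helper24.OrbitDim.Bdry
import Groth.Agent.Lib.Helper24.Orbit.LocallyClosed
import Groth.Agent.Lib.Helper24.Homog.KPoints

/-!
# The boundary of an orbit has smaller dimension; orbits of minimal dimension are closed (helper24)
-/

set_option autoImplicit false
set_option linter.style.haveILetI false
universe u
open AlgebraicGeometry CategoryTheory CategoryTheory.Limits TopologicalSpace Topology
  MonoidalCategory CartesianMonoidalCategory MonObj
open Groth.Agent.Lib.Helper24 Groth.Agent.Lib.lead Groth.Agent.Lib.Helper24.Orbit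

namespace Groth.Agent.Lib.Helper24.OrbitDim

variable (k : Type u) [Field k]

theorem noetherianSpace_of_finiteType (X : Over (Spec (CommRingCat.of k)))
    [LocallyOfFiniteType X.hom] [QuasiCompact X.hom] : NoetherianSpace X.left := by
  haveI : IsLocallyNoetherian X.left := LocallyOfFiniteType.isLocallyNoetherian X.hom
  haveI : CompactSpace X.left := by
    have := (quasiCompact_iff_compactSpace (f := X.hom ≫ terminal.from _)).1 inferInstance
    exact this
  haveI : IsNoetherian X.left := {}
  infer_instance

theorem bdry_lt (G X : Over (Spec (CommRingCat.of k))) [GrpObj G]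
    [LocallyOfFiniteType G.hom] [QuasiCompact G.hom]
    [LocallyOfFiniteType X.hom] [QuasiCompact X.hom]
    (a : AlgGrp.Action G X) (x : 𝟙_ (Over (Spec (CommRingCat.of k))) ⟶ X) :
    topologicalKrullDim
        ↥(closure (Set.range (a.orbitMap x).left.base) \ Set.range (a.orbitMap x).left.base) <
      topologicalKrullDim ↥(Set.range (a.orbitMap x).left.base) := by
  haveI := noetherianSpace_of_finiteType k X
  haveI : QuasiSeparated X.hom := by
    rw [quasiSeparated_iff_quasiSeparatedSpace]
    infer_instance
  have hne : (Set.range (a.orbitMap x).left.base).Nonempty := by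
    obtain ⟨g⟩ := nonempty_left k G
    exact ⟨_, g, rfl⟩
  exact dim_closure_diff_lt k X.hom (isLocallyClosed_range_orbitMap a x) hne
    (isClosed_closure_diff_range_orbitMap a x)

theorem main16131 [IsAlgClosed k]
    (G X : Over (Spec (CommRingCat.of k))) [GrpObj G] [Smooth G.hom] [QuasiCompact G.hom]
    [IsReduced X.left] [IsSeparated X.hom] [LocallyOfFiniteType X.hom] [QuasiCompact X.hom]
    (a : AlgGrp.Action G X) (x : 𝟙_ (Over (Spec (CommRingCat.of k))) ⟶ X) :
    topologicalKrullDim ↥(closure (Set.range (a.orbitMap x).left.base) \ Set.range (a.orbitMap x).left.base) <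
      topologicalKrullDim ↥(Set.range (a.orbitMap x).left.base) :=
  bdry_lt k G X a x

theorem main19519 [IsAlgClosed k]
    (G X : Over (Spec (CommRingCat.of k))) [GrpObj G] [Smooth G.hom] [QuasiCompact G.hom]
    [LocallyOfFiniteType X.hom] [QuasiCompact X.hom] (a : AlgGrp.Action G X)
    (x : 𝟙_ (Over (Spec (CommRingCat.of k))) ⟶ X)
    (hmin : ∀ y : 𝟙_ (Over (Spec (CommRingCat.of k))) ⟶ X,
      topologicalKrullDim (Set.range (a.orbitMap x).left.base) ≤ topologicalKrullDim (Set.range (a.orbitMap y).left.base)) :
    IsClosed (Set.range (a.orbitMap x).left.base) := by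
  haveI : QuasiSeparated X.hom := by
    haveI := noetherianSpace_of_finiteType k X
    rw [quasiSeparated_iff_quasiSeparatedSpace]
    infer_instance
  set E := Set.range (a.orbitMap x).left.base with hE
  have hEst : IsStable a E := isStable_range_orbitMap a x
  have hBcl : IsClosed (closure E \ E) := isClosed_closure_diff_range_orbitMap a x
  have hBst : IsStable a (closure E \ E) := (hEst.closure' a).diff hEst
  have hlt := bdry_lt k G X a x
  have hBempty : closure E \ E = ∅ := by
    by_contra hne
    rw [← Ne, ← Set.nonempty_iff_ne_empty] at hne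
    obtain ⟨y, hy1, hy2⟩ := Homog.exists_Kpoint_mem_closed (K := k) X.hom (closure E \ E)
      hBcl hne
    have hy1' : y ≫ X.hom = (𝟙_ (Over (Spec (CommRingCat.of k)))).hom := by
      rw [hy1]
      change Spec.map (CommRingCat.ofHom (RingHom.id k)) = 𝟙 _
      exact Spec.map_id _
    let y' : 𝟙_ (Over (Spec (CommRingCat.of k))) ⟶ X := Over.homMk y hy1'
    let pt : (𝟙_ (Over (Spec (CommRingCat.of k)))).left :=
      (⟨⊥, Ideal.isPrime_bot⟩ : PrimeSpectrum k)
    have hptE : y'.left.base pt ∈ Set.range (a.orbitMap y').left.base := mem_range_orbitMap a y' pt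
    have hsub : Set.range (a.orbitMap y').left.base ⊆ closure E \ E :=
      hBst.range_orbitMap_subset a y' ⟨y'.left.base pt, hy2 pt, hptE⟩
    have h1 := SecComp.dim_le_of_subset hsub
    have h2 := hmin y'
    exact absurd (lt_of_le_of_lt (h2.trans h1) hlt) (lt_irrefl _)
  have : closure E ⊆ E := Set.sdiff_eq_empty.1 hBempty
  exact closure_subset_iff_isClosed.1 this

end Groth.Agent.Lib.Helper24.OrbitDim
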